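import Mathlib

/-!
# Extension classes killed by an element

A class in `Ext^i(N, M)` killed by `s` comes from `Ext^i(N/s^(n+1)N, M)` as soon as the
`s`-power torsion of `N` is killed by `s^n`.
-/

universe u

open CategoryTheory Limits Abelian

namespace Groth.Agent.H1ExtLC

variable {R : Type u} [CommRing R]

/-- Precomposition with a morphism. -/
noncomputable abbrev pre {X Y M : ModuleCat.{u} R} {i : ℕ} (f : X ⟶ Y) (ξ : Ext Y M i) : Ext X M i :=
  (Ext.mk₀ f).comp ξ (zero_add i)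

/-- Postcomposition with a morphism. -/
noncomputable abbrev post {X M M' : ModuleCat.{u} R} {i : ℕ} (ξ : Ext X M i) (f : M ⟶ M') : Ext X M' i :=
  ξ.comp (Ext.mk₀ f) (add_zero i)

lemma pre_pre {X Y Z M : ModuleCat.{u} R} {i : ℕ} (f : X ⟶ Y) (g : Y ⟶ Z) (ξ : Ext Z M i) :
    pre f (pre g ξ) = pre (f ≫ g) ξ := by
  show (Ext.mk₀ f).comp ((Ext.mk₀ g).comp ξ _) _ = _
  rw [← Ext.comp_assoc _ _ _ (zero_add 0) (zero_add i) (by omega), Ext.mk₀_comp_mk₀]

lemma pre_post {X Y M M' : ModuleCat.{u} R} {i : ℕ} (f : X ⟶ Y) (ξ : Ext Y M i) (g : M ⟶ M') :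
    post (pre f ξ) g = pre f (post ξ g) :=
  Ext.comp_assoc _ _ _ (zero_add i) (add_zero i) (by omega)

lemma post_post {X M M' M'' : ModuleCat.{u} R} {i : ℕ} (ξ : Ext X M i) (f : M ⟶ M') (g : M' ⟶ M'') :
    post (post ξ f) g = post ξ (f ≫ g) := by
  show (ξ.comp (Ext.mk₀ f) _).comp (Ext.mk₀ g) _ = _
  rw [Ext.comp_assoc _ _ _ (add_zero i) (zero_add 0) (by omega), Ext.mk₀_comp_mk₀]

lemma pre_id {X M : ModuleCat.{u} R} {i : ℕ} (ξ : Ext X M i) : pre (𝟙 X) ξ = ξ := Ext.mk₀_id_comp ξ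

lemma pre_smul {X Y M : ModuleCat.{u} R} {i : ℕ} (f : X ⟶ Y) (r : R) (ξ : Ext Y M i) :
    pre f (r • ξ) = r • pre f ξ :=
  Ext.comp_smul _ ξ _ r

lemma pre_zero {X Y M : ModuleCat.{u} R} {i : ℕ} (f : X ⟶ Y) : pre f (0 : Ext Y M i) = 0 :=
  (Ext.mk₀ f).comp_zero _ _ _ _

lemma smul_id_pre {X M : ModuleCat.{u} R} {i : ℕ} (r : R) (ξ : Ext X M i) : pre (r • 𝟙 X) ξ = r • ξ := by
  show (Ext.mk₀ (r • 𝟙 X)).comp ξ _ = _
  rw [Ext.mk₀_smul, Ext.smul_comp, Ext.mk₀_id_comp]

/-- A map vanishing on the kernel of a surjection descends. -/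
lemma exists_desc {N N' Q : ModuleCat.{u} R} (q : N ⟶ N') (hq : Function.Surjective q.hom) (f : N ⟶ Q)
    (hf : ∀ x, q.hom x = 0 → f.hom x = 0) : ∃ g : N' ⟶ Q, q ≫ g = f := by
  refine ⟨ModuleCat.ofHom (((LinearMap.ker q.hom).liftQ f.hom hf).comp
    (LinearMap.quotKerEquivOfSurjective q.hom hq).symm.toLinearMap), ?_⟩
  refine ModuleCat.hom_ext (LinearMap.ext fun x => ?_)
  show (LinearMap.ker q.hom).liftQ f.hom hf
    ((LinearMap.quotKerEquivOfSurjective q.hom hq).symm (q.hom x)) = f.hom x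
  rw [(LinearEquiv.symm_apply_eq _).2 (LinearMap.quotKerEquivOfSurjective_apply_mk q.hom hq x).symm]
  rfl

/-- A class killed by `s` factors through any quotient by multiples of `s^(n+1)`. -/
theorem exists_factor_of_smul_eq_zero {N N' : ModuleCat.{u} R} (q : N ⟶ N') (hq : Function.Surjective q.hom)
    (s : R) (n : ℕ) (hker : ∀ x, q.hom x = 0 → ∃ y, s ^ (n + 1) • y = x)
    (hstab : ∀ x : N, s ^ (n + 1) • x = 0 → s ^ n • x = 0) (i : ℕ) :
    ∀ (M : ModuleCat.{u} R) (ξ : Ext N M i), s • ξ = 0 → ∃ η : Ext N' M i, pre q η = ξ := by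
  induction i with
  | zero =>
    intro M ξ hξ
    obtain ⟨f, rfl⟩ := (Ext.linearEquiv₀ (R := R)).symm.surjective ξ
    rw [← map_smul, LinearEquiv.map_eq_zero_iff] at hξ
    obtain ⟨g, hg⟩ := exists_desc q hq f fun x hx => by
      obtain ⟨y, rfl⟩ := hker x hx
      have h1 : s • f.hom y = 0 := congrArg (fun t : N ⟶ M => t.hom y) hξ
      rw [map_smul, pow_succ, mul_smul, h1, smul_zero]
    refine ⟨Ext.mk₀ g, ?_⟩
    show (Ext.mk₀ q).comp (Ext.mk₀ g) _ = _
    rw [Ext.mk₀_comp_mk₀, hg]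
    rfl
  | succ i ih =>
    intro M ξ hξ
    let T : ShortComplex (ModuleCat.{u} R) := ShortComplex.mk (Injective.ι M) (cokernel.π (Injective.ι M))
      (cokernel.condition _)
    have hT : T.ShortExact :=
      { exact := ShortComplex.exact_of_g_is_cokernel _ (cokernelIsCokernel _)
        mono_f := inferInstanceAs (Mono (Injective.ι M))
        epi_g := inferInstanceAs (Epi (cokernel.π (Injective.ι M))) }
    haveI : Injective T.X₂ := inferInstanceAs (Injective (Injective.under M))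
    obtain ⟨x₃, rfl⟩ := Ext.covariant_sequence_exact₁ N hT ξ (Ext.eq_zero_of_injective _) rfl
    rw [← Ext.smul_comp] at hξ
    obtain ⟨x₂, hx₂⟩ := Ext.covariant_sequence_exact₃ N hT (s • x₃) rfl hξ
    rcases i with _ | i
    · obtain ⟨f, rfl⟩ := (Ext.linearEquiv₀ (R := R)).symm.surjective x₃
      obtain ⟨w, rfl⟩ := (Ext.linearEquiv₀ (R := R)).symm.surjective x₂
      rw [← map_smul] at hx₂
      replace hx₂ : w ≫ T.g = s • f := by
        refine (Ext.mk₀_bijective _ _).1 ?_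
        rw [← Ext.mk₀_comp_mk₀]
        exact hx₂
      -- extend `s^(n+1) x ↦ s^n w x` to all of `N`
      let μ : N →ₗ[R] N := s ^ (n + 1) • LinearMap.id
      let W : ModuleCat.{u} R := ModuleCat.of R (LinearMap.range μ)
      let φ : N ⟶ W := ModuleCat.ofHom μ.rangeRestrict
      obtain ⟨w', hw'⟩ := exists_desc φ μ.surjective_rangeRestrict (s ^ n • w) fun x hx => by
        have h1 : s ^ (n + 1) • x = 0 := congrArg Subtype.val hx
        show s ^ n • w.hom x = 0
        rw [← map_smul, hstab x h1, map_zero]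
      let incl : W ⟶ N := ModuleCat.ofHom (LinearMap.range μ).subtype
      haveI : Mono incl := (ModuleCat.mono_iff_injective _).2 Subtype.val_injective
      let u : N ⟶ T.X₂ := Injective.factorThru w' incl
      have hu : ∀ x, u.hom (s ^ (n + 1) • x) = s ^ n • w.hom x := fun x => by
        refine Eq.trans ?_ (congrArg (fun t : N ⟶ T.X₂ => t.hom x) hw')
        exact congrArg (fun t : W ⟶ T.X₂ => t.hom (φ.hom x)) (Injective.comp_factorThru w' incl)
      obtain ⟨g, hg⟩ := exists_desc q hq (f - u ≫ T.g) fun x hx => by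
        obtain ⟨y, rfl⟩ := hker x hx
        show f.hom (s ^ (n + 1) • y) - T.g.hom (u.hom (s ^ (n + 1) • y)) = 0
        rw [hu, map_smul, map_smul, show T.g.hom (w.hom y) = s • f.hom y from
          congrArg (fun t : N ⟶ T.X₃ => t.hom y) hx₂, pow_succ, mul_smul, sub_self]
      refine ⟨(Ext.mk₀ g).comp hT.extClass (zero_add 1), ?_⟩
      show (Ext.mk₀ q).comp ((Ext.mk₀ g).comp hT.extClass _) _ = (Ext.mk₀ f).comp hT.extClass _
      rw [← Ext.comp_assoc _ _ _ (zero_add 0) (zero_add 1) (by omega), Ext.mk₀_comp_mk₀, hg]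
      conv_rhs => rw [← sub_add_cancel f (u ≫ T.g)]
      rw [Ext.mk₀_add (f - u ≫ T.g) (u ≫ T.g), Ext.add_comp, ← Ext.mk₀_comp_mk₀ u,
        Ext.comp_assoc _ _ _ (zero_add 0) (zero_add 1) (by omega), hT.comp_extClass, Ext.comp_zero]
      exact (add_zero _).symm
    · have h0 : s • x₃ = 0 := by rw [← hx₂, Ext.eq_zero_of_injective x₂, Ext.zero_comp]
      obtain ⟨η, hη⟩ := ih _ x₃ h0
      refine ⟨η.comp hT.extClass rfl, ?_⟩
      rw [← hη]
      exact (Ext.comp_assoc _ _ _ (zero_add (i + 1)) rfl (by omega)).symm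

end Groth.Agent.H1ExtLC
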