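import Groth.Agent.H1ExtLC.Factor
import Groth.Agent.H1Falt.Colim
import Groth.Agent.LC.CohBasic
import Groth.Agent.LC.ExtLoc

/-!
# Localisation of `Ext` classes at a minimal prime of their support
-/

set_option backward.isDefEq.respectTransparency false

universe u

open CategoryTheory Limits Abelian IsLocalRing

namespace Groth.Agent.H1ExtLC

open Groth.Agent.H1Falt (qJ qMapJ)

variable {R : Type u} [CommRing R]

section LocFun

variable (S : Submonoid R)

/-- Localisation as an exact functor. -/
noncomputable def locFun : ModuleCat.{u} R ⥤ ModuleCat.{u} (Localization S) where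
  obj M := ModuleCat.of (Localization S) (LocalizedModule S M)
  map f := ModuleCat.ofHom (LocalizedModule.map S f.hom)
  map_id M := by
    refine ModuleCat.hom_ext (LinearMap.ext fun x => ?_)
    induction x using LocalizedModule.induction_on with
    | h m s => exact LocalizedModule.map_mk S _ m s
  map_comp f g := by
    refine ModuleCat.hom_ext (LinearMap.ext fun x => ?_)
    induction x using LocalizedModule.induction_on with
    | h m s =>
      show LocalizedModule.map S (g.hom ∘ₗ f.hom) (LocalizedModule.mk m s) =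
        LocalizedModule.map S g.hom (LocalizedModule.map S f.hom (LocalizedModule.mk m s))
      rw [LocalizedModule.map_mk, LocalizedModule.map_mk, LocalizedModule.map_mk]
      rfl

instance : (locFun S).Additive where
  map_add {X Y f g} := ModuleCat.hom_ext (map_add (LocalizedModule.map S) f.hom g.hom)

lemma locFun_map_exact (T : ShortComplex (ModuleCat.{u} R)) (h : T.Exact) :
    (T.map (locFun S)).Exact := by
  rw [ShortComplex.ShortExact.moduleCat_exact_iff_function_exact] at h ⊢
  exact LocalizedModule.map_exact S _ _ h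

instance : PreservesFiniteLimits (locFun S) := by
  have := ((Functor.exact_tfae (locFun S)).out 1 3).mp (locFun_map_exact S)
  exact this.1

instance : PreservesFiniteColimits (locFun S) := by
  have := ((Functor.exact_tfae (locFun S)).out 1 3).mp (locFun_map_exact S)
  exact this.2

/-- A linear map out of a finite module with torsion values is killed by one element. -/
lemma exists_smul_eq_zero_of_torsion {X Y : ModuleCat.{u} R} [Module.Finite R X] (f : X ⟶ Y)
    (h : ∀ x, ∃ t ∈ S, t • f.hom x = 0) : ∃ t ∈ S, t • f = 0 := by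
  classical
  obtain ⟨G, hG⟩ := Module.Finite.fg_top (R := R) (M := X)
  choose t ht hkill using h
  refine ⟨∏ x ∈ G, t x, S.prod_mem fun x _ => ht x, ModuleCat.hom_ext (LinearMap.ext fun x => ?_)⟩
  show (∏ x ∈ G, t x) • f.hom x = 0
  have hx : x ∈ Submodule.span R (G : Set X) := hG ▸ Submodule.mem_top
  induction hx using Submodule.span_induction with
  | mem y hy =>
    obtain ⟨c, hc⟩ := Finset.dvd_prod_of_mem t (Finset.mem_coe.1 hy)
    rw [hc, mul_comm, mul_smul, hkill, smul_zero]
  | zero => rw [map_zero, smul_zero]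
  | add y z _ _ hy hz => rw [map_add, smul_add, hy, hz, add_zero]
  | smul c y _ hy => rw [map_smul, smul_comm, hy, smul_zero]

/-- A class in `Ext` of a finite module vanishing after localisation is killed by the submonoid. -/
theorem exists_smul_eq_zero_of_map [IsNoetherianRing R] (i : ℕ) :
    ∀ (N M : ModuleCat.{u} R) [Module.Finite R N] (ξ : Ext.{u} N M i),
      ξ.mapExactFunctor (locFun S) = 0 → ∃ s ∈ S, s • ξ = 0 := by
  induction i with
  | zero =>
    intro N M _ ξ hξ
    obtain ⟨f, rfl⟩ := (Ext.linearEquiv₀ (R := R)).symm.surjective ξ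
    have h0 : (locFun S).map f = 0 := by
      refine (Ext.mk₀_bijective _ _).1 ?_
      rw [Ext.mk₀_zero, ← Ext.mapExactFunctor_mk₀]
      exact hξ
    obtain ⟨t, ht, hf⟩ := exists_smul_eq_zero_of_torsion S f fun x => by
      have h1 : LocalizedModule.mk (f.hom x) (1 : S) = 0 :=
        (LocalizedModule.map_mk S f.hom x 1).symm.trans
          (congrArg (fun g : (locFun S).obj N ⟶ (locFun S).obj M => g.hom (LocalizedModule.mk x 1)) h0)
      obtain ⟨t, ht⟩ := (IsLocalizedModule.eq_zero_iff S (LocalizedModule.mkLinearMap S M)).1 h1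
      exact ⟨t, t.2, ht⟩
    exact ⟨t, ht, by rw [← map_smul, hf, map_zero]⟩
  | succ i ih =>
    intro N M _ ξ hξ
    obtain ⟨n, π, hπ⟩ := LC.exists_fin_presentation (R := R) N
    let T : ShortComplex (ModuleCat.{u} R) := ShortComplex.mk (X₁ := ModuleCat.of R (LinearMap.ker π))
      (X₂ := ModuleCat.of R (Fin n → R)) (X₃ := N) (ModuleCat.ofHom (LinearMap.ker π).subtype)
      (ModuleCat.ofHom π) (ModuleCat.hom_ext (LinearMap.ext fun z => z.2))
    have hT : T.ShortExact :=
      { exact := (ShortComplex.ShortExact.moduleCat_exact_iff_function_exact _).2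
          (LinearMap.exact_subtype_ker_map π)
        mono_f := (ModuleCat.mono_iff_injective _).2 Subtype.val_injective
        epi_g := (ModuleCat.epi_iff_surjective _).2 hπ }
    haveI : Projective T.X₂ := (IsProjective.iff_projective (R := R) (Fin n → R)).1 inferInstance
    haveI : Projective (T.map (locFun S)).X₂ :=
      (IsProjective.iff_projective (R := Localization S) (LocalizedModule S (Fin n → R))).1 inferInstance
    haveI : Module.Finite R T.X₁ := inferInstanceAs (Module.Finite R (LinearMap.ker π))
    obtain ⟨ζ, rfl⟩ := Ext.contravariant_sequence_exact₃ hT M ξ (Ext.eq_zero_of_projective _) (add_comm 1 i)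
    rw [Ext.mapExactFunctor_comp, Ext.mapExactFunctor_extClass] at hξ
    obtain ⟨x₂, hx₂⟩ := Ext.contravariant_sequence_exact₁ (hT.map_of_exact (locFun S)) _ _ (add_comm 1 i) hξ
    rcases i with _ | i
    · obtain ⟨h, rfl⟩ := (Ext.linearEquiv₀ (R := R)).symm.surjective ζ
      obtain ⟨H, rfl⟩ := (Ext.linearEquiv₀ (R := Localization S)).symm.surjective x₂
      have hH : (locFun S).map T.f ≫ H = (locFun S).map h := by
        refine (Ext.mk₀_bijective _ _).1 ?_
        rw [← Ext.mk₀_comp_mk₀, ← Ext.mapExactFunctor_mk₀ (locFun S) h]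
        exact hx₂
      let HL : LocalizedModule S (Fin n → R) →ₗ[Localization S] LocalizedModule S M := H.hom
      obtain ⟨w, hw⟩ := (LC.homLoc S M (Fin n → R)).surjective HL
      induction w using LocalizedModule.induction_on with
      | h h₀ s =>
        have key : ∀ y : Fin n → R, (s : R) • HL (LocalizedModule.mk y 1) = LocalizedModule.mk (h₀ y) 1 := by
          intro y
          have e : (s : R) • (LC.homLoc S M (Fin n → R) (LocalizedModule.mk h₀ s)) =
              LocalizedModule.map S h₀ := by
            rw [← LC.homLoc_mk, ← algebraMap_smul (Localization S) (s : R), ← map_smul, algebraMap_smul,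
              LocalizedModule.smul'_mk, LocalizedModule.mk_cancel_common_left s 1 h₀ |>.symm.trans ?_]
            rw [mul_one]; rfl
          rw [← hw]
          exact (LinearMap.congr_fun e _).trans (LocalizedModule.map_mk S h₀ y 1)
        obtain ⟨t, ht, hkill⟩ := exists_smul_eq_zero_of_torsion S
          ((s : R) • h - T.f ≫ ModuleCat.ofHom h₀) fun k => by
            have h1 : LocalizedModule.mk ((s : R) • h.hom k) (1 : S) = LocalizedModule.mk (h₀ k.1) 1 := by
              rw [← key, ← LocalizedModule.smul'_mk]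
              refine congrArg ((s : R) • ·) ((LocalizedModule.map_mk S h.hom k 1).symm.trans ?_)
              refine (congrArg (fun g : (locFun S).obj T.X₁ ⟶ (locFun S).obj M =>
                g.hom (LocalizedModule.mk k 1)) hH).symm.trans ?_
              exact congrArg HL (LocalizedModule.map_mk S _ k 1)
            obtain ⟨c, hc⟩ := LocalizedModule.mk_eq.1 h1
            refine ⟨c, c.2, ?_⟩
            rw [one_smul, one_smul] at hc
            show (c : R) • ((s : R) • h.hom k - h₀ k.1) = 0
            rw [smul_sub, sub_eq_zero]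
            exact hc
        refine ⟨t * s, S.mul_mem ht s.2, ?_⟩
        rw [smul_sub, sub_eq_zero, smul_smul] at hkill
        rw [← Ext.comp_smul, ← map_smul, hkill,
          show t • (T.f ≫ ModuleCat.ofHom h₀) = T.f ≫ (t • ModuleCat.ofHom h₀) from (Linear.comp_smul _ _ _ _ _ _).symm]
        show hT.extClass.comp (Ext.mk₀ _) _ = 0
        rw [← Ext.mk₀_comp_mk₀, hT.extClass_comp_assoc]
    · obtain ⟨s, hs, hsζ⟩ := ih T.X₁ M ζ (by rw [← hx₂, Ext.eq_zero_of_projective x₂, Ext.comp_zero])
      exact ⟨s, hs, by rw [← Ext.comp_smul, hsζ, Ext.comp_zero]⟩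

end LocFun

variable [IsNoetherianRing R] (p : Ideal R) [p.IsPrime]

omit [p.IsPrime] in
lemma qMapJ_mk {J J' : Ideal R} (h : J' ≤ J) (r : R) :
    (qMapJ h).hom (Ideal.Quotient.mk J' r) = Ideal.Quotient.mk J r := rfl

/-- The generator of `(R/J)_p`. -/
noncomputable def gen (J : Ideal R) : (locFun p.primeCompl).obj (qJ J) :=
  LocalizedModule.mk (Ideal.Quotient.mk J 1) 1

omit [IsNoetherianRing R] in
lemma hom_ext_gen {J : Ideal R} {Y : ModuleCat.{u} (Localization.AtPrime p)}
    {φ ψ : (locFun p.primeCompl).obj (qJ J) ⟶ Y} (h : φ.hom (gen p J) = ψ.hom (gen p J)) : φ = ψ := by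
  refine ModuleCat.hom_ext (LinearMap.ext fun z => ?_)
  induction z using LocalizedModule.induction_on with
  | h m s =>
    obtain ⟨r, rfl⟩ := Ideal.Quotient.mk_surjective m
    have : LocalizedModule.mk (Ideal.Quotient.mk J r) s =
        (Localization.mk r s : Localization.AtPrime p) • gen p J := by
      refine Eq.symm ((LocalizedModule.mk_smul_mk r _ s 1).trans ?_)
      rw [mul_one, Algebra.smul_def, Ideal.Quotient.algebraMap_eq, ← map_mul, mul_one]
    rw [this, map_smul, map_smul, h]

omit [IsNoetherianRing R] in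
lemma qObj_hom_ext {n : ℕ} {Y : ModuleCat.{u} (Localization.AtPrime p)}
    {φ ψ : LC.qObj (maximalIdeal (Localization.AtPrime p)) n ⟶ Y}
    (h : φ.hom (Ideal.Quotient.mk _ 1) = ψ.hom (Ideal.Quotient.mk _ 1)) : φ = ψ := by
  refine ModuleCat.hom_ext (Submodule.linearMap_qext _ (LinearMap.ext_ring h))

/-- At a minimal prime, a power of the maximal ideal lies in the localised ideal. -/
lemma exists_pow_le {J : Ideal R} (hJp : J ≤ p) (hmin : ∀ q : Ideal R, q.IsPrime → J ≤ q → q ≤ p → q = p) :
    ∃ n : ℕ, maximalIdeal (Localization.AtPrime p) ^ n ≤ J.map (algebraMap R (Localization.AtPrime p)) := by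
  let JA := J.map (algebraMap R (Localization.AtPrime p))
  have hle : maximalIdeal (Localization.AtPrime p) ≤ JA.radical := by
    rw [Ideal.radical_eq_sInf]
    refine le_sInf fun Q hQ => ?_
    haveI : Q.IsPrime := hQ.2
    have h1 : Q.comap (algebraMap R (Localization.AtPrime p)) = p := by
      refine hmin _ inferInstance (Ideal.map_le_iff_le_comap.1 hQ.1) ?_
      refine (Ideal.comap_mono (IsLocalRing.le_maximalIdeal hQ.2.ne_top)).trans (le_of_eq ?_)
      exact IsLocalization.AtPrime.comap_maximalIdeal (Localization.AtPrime p) p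
    refine (le_of_eq ?_).trans (IsLocalization.map_under p.primeCompl (Localization.AtPrime p) Q).le
    rw [Ideal.under_def, h1, Localization.AtPrime.map_eq_maximalIdeal]
  haveI : IsNoetherianRing (Localization.AtPrime p) :=
    IsLocalization.isNoetherianRing p.primeCompl _ inferInstance
  obtain ⟨n, hn⟩ := JA.exists_radical_pow_le_of_fg (IsNoetherian.noetherian _)
  exact ⟨n, (Ideal.pow_right_mono hle n).trans hn⟩

omit [IsNoetherianRing R] in
lemma exists_toGen {J : Ideal R} {n : ℕ}
    (h : maximalIdeal (Localization.AtPrime p) ^ n ≤ J.map (algebraMap R (Localization.AtPrime p))) :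
    ∃ g : LC.qObj (maximalIdeal (Localization.AtPrime p)) n ⟶ (locFun p.primeCompl).obj (qJ J),
      g.hom (Ideal.Quotient.mk _ 1) = gen p J := by
  let t := LinearMap.toSpanSingleton (Localization.AtPrime p)
    ((locFun p.primeCompl).obj (qJ J)) (gen p J)
  have hk : J.map (algebraMap R (Localization.AtPrime p)) ≤ LinearMap.ker t := by
    refine Ideal.map_le_iff_le_comap.2 fun j hj => ?_
    show (algebraMap R (Localization.AtPrime p) j : Localization.AtPrime p) • gen p J = 0
    rw [← Localization.mk_one_eq_algebraMap]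
    refine (LocalizedModule.mk_smul_mk j _ 1 1).trans ?_
    rw [Algebra.smul_def, Ideal.Quotient.algebraMap_eq, ← map_mul, mul_one, Ideal.Quotient.eq_zero_iff_mem.2 hj]
    exact LocalizedModule.zero_mk _
  exact ⟨ModuleCat.ofHom (Submodule.liftQ _ t (h.trans hk)), one_smul (Localization.AtPrime p) (gen p J)⟩

omit [IsNoetherianRing R] in
lemma exists_fromGen {J : Ideal R} (n : ℕ) (hJp : J ≤ p) :
    ∃ h : (locFun p.primeCompl).obj (qJ (J ^ n)) ⟶ LC.qObj (maximalIdeal (Localization.AtPrime p)) n,
      h.hom (gen p (J ^ n)) = Ideal.Quotient.mk _ 1 := by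
  let A := Localization.AtPrime p
  let X := A ⧸ maximalIdeal A ^ n
  let ψ : R →ₗ[R] X := ((maximalIdeal A ^ n : Submodule A A).mkQ.restrictScalars R) ∘ₗ Algebra.linearMap R A
  have hψ : J ^ n ≤ LinearMap.ker ψ := fun r hr => by
    show Ideal.Quotient.mk (maximalIdeal A ^ n) (algebraMap R A r) = 0
    rw [Ideal.Quotient.eq_zero_iff_mem, ← Localization.AtPrime.map_eq_maximalIdeal, ← Ideal.map_pow]
    exact Ideal.mem_map_of_mem _ (Ideal.pow_right_mono hJp n hr)
  have hu : ∀ s : p.primeCompl, IsUnit (algebraMap R (Module.End R X) s) := fun s => by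
    have := (IsLocalization.map_units A s).map (Algebra.lsmul R R X)
    rwa [AlgHom.commutes] at this
  refine ⟨ModuleCat.ofHom ((LocalizedModule.lift p.primeCompl (Submodule.liftQ _ ψ hψ) hu).extendScalarsOfIsLocalization
    p.primeCompl A), ?_⟩
  show LocalizedModule.lift p.primeCompl (Submodule.liftQ _ ψ hψ) hu (LocalizedModule.mk _ 1) = _
  rw [LocalizedModule.lift_mk_one]
  show Ideal.Quotient.mk (maximalIdeal A ^ n) (algebraMap R A 1) = _
  rw [map_one]

/-- The class at a minimal prime of the support of an `Ext` class, and what its image detects. -/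
theorem exists_locClass {J : Ideal R} (hJp : J ≤ p)
    (hmin : ∀ q : Ideal R, q.IsPrime → J ≤ q → q ≤ p → q = p) {M : ModuleCat.{u} R} {i : ℕ}
    (ξ : Ext.{u} (qJ J) M i) :
    ∃ z : (localCohomology (maximalIdeal (Localization.AtPrime p)) i).obj ((locFun p.primeCompl).obj M),
      (∀ (M' : ModuleCat.{u} R) (f : M ⟶ M'),
        ((localCohomology (maximalIdeal (Localization.AtPrime p)) i).map ((locFun p.primeCompl).map f)).hom z = 0 →
          ∃ (n : ℕ) (hn : J ^ n ≤ J) (s : R), s ∉ p ∧ s • pre (qMapJ hn) (post ξ f) = 0) ∧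
      (∀ (M' : ModuleCat.{u} R) (f : M ⟶ M') (J' : Ideal R) (h : J' ≤ J),
        (∀ q : Ideal R, q.IsPrime → J' ≤ q → J ≤ q) → pre (qMapJ h) (post ξ f) = 0 →
          ((localCohomology (maximalIdeal (Localization.AtPrime p)) i).map ((locFun p.primeCompl).map f)).hom z = 0) := by
  let A := Localization.AtPrime p
  let m := maximalIdeal A
  obtain ⟨n₀, hn₀⟩ := exists_pow_le p hJp hmin
  obtain ⟨g, hg⟩ := exists_toGen p hn₀
  refine ⟨LC.toH m i _ n₀ (pre g (ξ.mapExactFunctor (locFun p.primeCompl))), fun M' f hf => ?_,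
    fun M' f J' h hV hf => ?_⟩
  · rw [LC.toH_natural, LC.toH_eq_zero_iff] at hf
    obtain ⟨n', hn', hf⟩ := hf
    let n := max n' 1
    obtain ⟨h, hh⟩ := exists_fromGen p n hJp
    have hJn : J ^ n ≤ J := Ideal.pow_le_self (by omega)
    have hcomp : h ≫ LC.qMap m (hn'.trans (le_max_left n' 1)) ≫ g =
        (locFun p.primeCompl).map (qMapJ hJn) := by
      refine hom_ext_gen p ?_
      show g.hom ((LC.qMap m _).hom (h.hom (gen p (J ^ n)))) = _
      rw [hh, LC.qMap_mk, hg]
      exact (LocalizedModule.map_mk p.primeCompl (qMapJ hJn).hom (Ideal.Quotient.mk (J ^ n) 1) 1).symm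
    obtain ⟨s, hs, hs0⟩ := exists_smul_eq_zero_of_map p.primeCompl i (qJ (J ^ n)) M'
      (pre (qMapJ hJn) (post ξ f)) (by
        rw [Ext.mapExactFunctor_comp, Ext.mapExactFunctor_comp, Ext.mapExactFunctor_mk₀,
          Ext.mapExactFunctor_mk₀, ← hcomp]
        show pre _ (post _ _) = 0
        rw [← pre_pre, ← pre_pre, ← LC.qMap_comp m hn' (le_max_left n' 1), ← pre_pre]
        rw [LC.res_apply] at hf
        have hf' : pre (LC.qMap m hn') (pre g (post (ξ.mapExactFunctor (locFun p.primeCompl))
            ((locFun p.primeCompl).map f))) = 0 := by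
          rw [← pre_post]; exact hf
        rw [hf', pre_zero, pre_zero])
    exact ⟨n, hJn, s, hs, hs0⟩
  · obtain ⟨n₁, hn₁⟩ := exists_pow_le p (J := J') (h.trans hJp)
      (fun q hq hJq hqp => hmin q hq (hV q hq hJq) hqp)
    let n := max n₀ n₁
    obtain ⟨g', hg'⟩ := exists_toGen p (J := J') (n := n)
      ((Ideal.pow_le_pow_right (le_max_right n₀ n₁)).trans hn₁)
    have hcomp : g' ≫ (locFun p.primeCompl).map (qMapJ h) = LC.qMap m (le_max_left n₀ n₁) ≫ g := by
      refine qObj_hom_ext p ?_
      show ((locFun p.primeCompl).map (qMapJ h)).hom (g'.hom (Ideal.Quotient.mk _ 1)) = g.hom ((LC.qMap m _).hom _)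
      rw [hg', LC.qMap_mk, hg]
      exact LocalizedModule.map_mk p.primeCompl (qMapJ h).hom (Ideal.Quotient.mk J' 1) 1
    rw [LC.toH_natural, ← LC.toH_res m i (le_max_left n₀ n₁), LC.res_apply]
    refine (congrArg _ ?_).trans (map_zero _)
    show pre _ (post (pre g _) _) = 0
    rw [pre_post, pre_pre, ← hcomp, ← pre_pre]
    have := congrArg (Ext.mapExactFunctor (locFun p.primeCompl)) hf
    rw [Ext.mapExactFunctor_comp, Ext.mapExactFunctor_comp, Ext.mapExactFunctor_mk₀,
      Ext.mapExactFunctor_mk₀, Ext.mapExactFunctor_zero] at this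
    exact (congrArg (pre g') this).trans (pre_zero _)

end Groth.Agent.H1ExtLC
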