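import Groth.Agent.H1ExtLC.Loc
import Groth.Agent.H1Falt.Systems

/-!
# Pointwise criteria for maps of local cohomology with supports in a subset
-/

set_option backward.isDefEq.respectTransparency false

universe u

open CategoryTheory Limits Abelian IsLocalRing Opposite

namespace Groth.Agent.H1ExtLC

open Groth.Agent.H1Falt (qJ qMapJ idealObj idealArr lvlT lvlT_map le_of_arr)

variable {R : Type u} [CommRing R] (T : Set (PrimeSpectrum R))

/-- Local cohomology with supports in `T`. -/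
noncomputable abbrev HTF (i : ℕ) : ModuleCat.{u} R ⥤ ModuleCat.{u} R :=
  localCohomology.ofDiagram.{u, u} (Dual2.idealsInDiagram T) i

/-- The class of an extension. -/
noncomputable def toT (M : ModuleCat.{u} R) (i : ℕ) (J : Ideal R)
    (hJ : PrimeSpectrum.zeroLocus (J : Set R) ⊆ T) : Ext.{u} (qJ J) M i →ₗ[R] (HTF T i).obj M :=
  ((colimit.ι (localCohomology.diagram (Dual2.idealsInDiagram T) i) (op (idealObj T J hJ))).app M).hom ∘ₗ
    (lvlT T M i (idealObj T J hJ)).symm.toLinearMap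

variable {T}

lemma toT_lvlT (M : ModuleCat.{u} R) (i : ℕ) (X : Dual2.IdealsIn T)
    (w : ((localCohomology.diagram (Dual2.idealsInDiagram T) i).obj (op X)).obj M) :
    toT T M i X.obj X.property (lvlT T M i X w) =
      ((colimit.ι (localCohomology.diagram (Dual2.idealsInDiagram T) i) (op X)).app M).hom w :=
  congrArg _ ((lvlT T M i X).symm_apply_apply w)

lemma toT_pre (M : ModuleCat.{u} R) (i : ℕ) {J J' : Ideal R}
    (hJ : PrimeSpectrum.zeroLocus (J : Set R) ⊆ T) (hJ' : PrimeSpectrum.zeroLocus (J' : Set R) ⊆ T)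
    (h : J' ≤ J) (x : Ext.{u} (qJ J) M i) : toT T M i J' hJ' (pre (qMapJ h) x) = toT T M i J hJ x := by
  obtain ⟨w, rfl⟩ := (lvlT T M i (idealObj T J hJ)).surjective x
  refine (congrArg _ (lvlT_map T M i (idealArr T (X := idealObj T J' hJ') (Y := idealObj T J hJ) h) h w).symm).trans ?_
  refine (toT_lvlT M i (idealObj T J' hJ') _).trans (Eq.trans ?_ (toT_lvlT M i (idealObj T J hJ) w).symm)
  exact ConcreteCategory.congr_hom (congrArg (fun t => t.app M)
    (colimit.w (localCohomology.diagram (Dual2.idealsInDiagram T) i)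
      (idealArr T (X := idealObj T J' hJ') (Y := idealObj T J hJ) h).op)) w

lemma exists_toT (M : ModuleCat.{u} R) (i : ℕ) (z : (HTF T i).obj M) :
    ∃ J hJ x, toT T M i J hJ x = z := by
  obtain ⟨j, w, hw⟩ := Concrete.isColimit_exists_rep _
    (isColimitOfPreserves ((evaluation _ _).obj M)
      (colimit.isColimit (localCohomology.diagram (Dual2.idealsInDiagram T) i))) z
  exact ⟨j.unop.obj, j.unop.property, lvlT T M i j.unop w, (toT_lvlT M i j.unop w).trans hw⟩

lemma exists_of_toT_eq_zero (M : ModuleCat.{u} R) (i : ℕ) {J : Ideal R}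
    (hJ : PrimeSpectrum.zeroLocus (J : Set R) ⊆ T) (x : Ext.{u} (qJ J) M i) (hx : toT T M i J hJ x = 0) :
    ∃ (J' : Ideal R) (_ : PrimeSpectrum.zeroLocus (J' : Set R) ⊆ T) (h : J' ≤ J), pre (qMapJ h) x = 0 := by
  let X := idealObj T J hJ
  obtain ⟨w, rfl⟩ := (lvlT T M i X).surjective x
  have hw := (toT_lvlT M i X w).symm.trans hx
  obtain ⟨j, f, g, hg⟩ := Concrete.isColimit_exists_of_rep_eq _
    (isColimitOfPreserves ((evaluation _ _).obj M)
      (colimit.isColimit (localCohomology.diagram (Dual2.idealsInDiagram T) i)))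
    (i := op X) (j := op X) w
    (0 : ((localCohomology.diagram (Dual2.idealsInDiagram T) i).obj (op X)).obj M)
    (hw.trans (map_zero _).symm)
  have h := le_of_arr T f.unop
  refine ⟨j.unop.obj, j.unop.property, h, ?_⟩
  exact ((lvlT_map T M i f.unop h w).symm.trans (congrArg (lvlT T M i j.unop) (hg.trans (map_zero _)))).trans
    (map_zero _)

lemma toT_natural {M N : ModuleCat.{u} R} (g : M ⟶ N) (i : ℕ) {J : Ideal R}
    (hJ : PrimeSpectrum.zeroLocus (J : Set R) ⊆ T) (x : Ext.{u} (qJ J) M i) :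
    ((HTF T i).map g).hom (toT T M i J hJ x) = toT T N i J hJ (post x g) := by
  let X := idealObj T J hJ
  obtain ⟨w, rfl⟩ := (lvlT T M i X).surjective x
  refine (congrArg ((HTF T i).map g).hom (toT_lvlT M i X w)).trans ?_
  refine Eq.trans ?_ (congrArg (toT T N i J hJ)
    (LC.ExtBridge.bridge_natural_right (projectiveResolution (qJ X.obj)) M i g w))
  refine Eq.trans ?_ (toT_lvlT N i X _).symm
  exact (ConcreteCategory.congr_hom
    ((colimit.ι (localCohomology.diagram (Dual2.idealsInDiagram T) i) (op X)).naturality g) w).symm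

/-- `J/J'`. -/
noncomputable abbrev Kr (J J' : Ideal R) : ModuleCat.{u} R :=
  ModuleCat.of R (↥J ⧸ Submodule.comap J.subtype J')

/-- `J/J' → R/J'`. -/
noncomputable def krIncl (J J' : Ideal R) : Kr J J' ⟶ qJ J' :=
  ModuleCat.ofHom (Submodule.mapQ _ _ J.subtype le_rfl)

/-- `J/J'' → J/J'`. -/
noncomputable def krMap (J : Ideal R) {J' J'' : Ideal R} (h : J'' ≤ J') : Kr J J'' ⟶ Kr J J' :=
  ModuleCat.ofHom (Submodule.mapQ _ _ LinearMap.id fun _ hx => h hx)

lemma krMap_surjective (J : Ideal R) {J' J'' : Ideal R} (h : J'' ≤ J') :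
    Function.Surjective (krMap J h).hom := fun x => by
  obtain ⟨x, rfl⟩ := Submodule.Quotient.mk_surjective _ x
  exact ⟨Submodule.Quotient.mk x, rfl⟩

/-- `0 → J/J' → R/J' → R/J → 0`. -/
noncomputable def krSeq {J J' : Ideal R} (h : J' ≤ J) : ShortComplex (ModuleCat.{u} R) :=
  ShortComplex.mk (krIncl J J') (qMapJ h) (ModuleCat.hom_ext (Submodule.linearMap_qext _
    (LinearMap.ext fun x => (Submodule.Quotient.mk_eq_zero (J : Submodule R R)).2 x.2)))

lemma krSeq_shortExact {J J' : Ideal R} (h : J' ≤ J) : (krSeq h).ShortExact where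
  exact := (ShortComplex.ShortExact.moduleCat_exact_iff_function_exact _).2 fun y => by
    obtain ⟨r, rfl⟩ := Ideal.Quotient.mk_surjective y
    constructor
    · intro hr
      exact ⟨Submodule.Quotient.mk ⟨r, (Submodule.Quotient.mk_eq_zero (J : Submodule R R)).1 hr⟩, rfl⟩
    · rintro ⟨x, hx⟩
      obtain ⟨x, rfl⟩ := Submodule.Quotient.mk_surjective _ x
      rw [← hx]
      exact (Submodule.Quotient.mk_eq_zero (J : Submodule R R)).2 x.2
  mono_f := (ModuleCat.mono_iff_injective _).2 ((injective_iff_map_eq_zero _).2 fun x hx => by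
    obtain ⟨x, rfl⟩ := Submodule.Quotient.mk_surjective _ x
    exact (Submodule.Quotient.mk_eq_zero _).2 ((Submodule.Quotient.mk_eq_zero (J' : Submodule R R)).1 hx))
  epi_g := (ModuleCat.epi_iff_surjective _).2 fun y => by
    obtain ⟨r, rfl⟩ := Ideal.Quotient.mk_surjective y
    exact ⟨Ideal.Quotient.mk J' r, rfl⟩

/-- The morphism of sequences given by a refinement. -/
noncomputable def krSeqMap {J J' J'' : Ideal R} (h : J' ≤ J) (h' : J'' ≤ J') :
    krSeq (h'.trans h) ⟶ krSeq h where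
  τ₁ := krMap J h'
  τ₂ := qMapJ h'
  τ₃ := 𝟙 _
  comm₁₂ := ModuleCat.hom_ext (Submodule.linearMap_qext _ (LinearMap.ext fun _ => rfl))
  comm₂₃ := ModuleCat.hom_ext (Submodule.linearMap_qext _ (LinearMap.ext fun _ => rfl))

lemma extClass_refine {J J' J'' : Ideal R} (h : J' ≤ J) (h' : J'' ≤ J') {M : ModuleCat.{u} R} {j : ℕ}
    (ζ : Ext.{u} (Kr J J') M j) :
    (krSeq_shortExact h).extClass.comp ζ (add_comm 1 j) =
      (krSeq_shortExact (h'.trans h)).extClass.comp (pre (krMap J h') ζ) (add_comm 1 j) := by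
  have hn := ShortComplex.ShortExact.extClass_naturality (krSeq_shortExact (h'.trans h)) (krSeq_shortExact h)
    (krSeqMap h h')
  rw [show (krSeqMap h h').τ₃ = 𝟙 _ from rfl, Ext.mk₀_id_comp] at hn
  rw [← hn]
  exact Ext.comp_assoc _ _ _ (add_zero 1) (zero_add j) (by omega)

/-- Multiplication by `t ∈ J` as a map `R/J' → J/J'`. -/
noncomputable def krMul {J : Ideal R} (t : R) (ht : t ∈ J) (J' : Ideal R) : qJ J' ⟶ Kr J J' :=
  ModuleCat.ofHom (Submodule.mapQ _ _ (LinearMap.toSpanSingleton R (↥J) ⟨t, ht⟩)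
    fun r hr => Ideal.mul_mem_right t J' hr)

lemma krIncl_krMul {J : Ideal R} (t : R) (ht : t ∈ J) (J' : Ideal R) :
    krIncl J J' ≫ krMul t ht J' = t • 𝟙 (Kr J J') := by
  refine ModuleCat.hom_ext (Submodule.linearMap_qext _ (LinearMap.ext fun x => ?_))
  exact congrArg Submodule.Quotient.mk (Subtype.ext (mul_comm (x : R) t))

lemma krMap_krMul {J : Ideal R} (t : R) (ht : t ∈ J) {J' J'' : Ideal R} (h : J'' ≤ J') :
    qMapJ h ≫ krMul t ht J' = krMul t ht J'' ≫ krMap J h :=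
  ModuleCat.hom_ext (Submodule.linearMap_qext _ (LinearMap.ext fun _ => rfl))

variable [IsNoetherianRing R]

lemma exists_stab (s : R) (N : Type u) [AddCommGroup N] [Module R N] [Module.Finite R N] :
    ∃ n : ℕ, ∀ x : N, s ^ (n + 1) • x = 0 → s ^ n • x = 0 := by
  haveI : IsNoetherian R N := isNoetherian_of_isNoetherianRing_of_finite R N
  let f : ℕ →o Submodule R N :=
    ⟨fun k => LinearMap.ker (s ^ k • LinearMap.id : N →ₗ[R] N), fun a b hab x hx => by
      show s ^ b • x = 0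
      rw [← Nat.sub_add_cancel hab, pow_add, mul_smul]
      exact (congrArg _ hx).trans (smul_zero _)⟩
  obtain ⟨n, hn⟩ := monotone_stabilizes_iff_noetherian.mpr inferInstance f
  exact ⟨n, fun x hx => by
    have : x ∈ f (n + 1) := hx
    rwa [← hn (n + 1) (Nat.le_succ n)] at this⟩

/-- Common refinement: one level and one element avoiding a finite set of primes. -/
lemma exists_avoid (P : Finset (Ideal R)) (hP : ∀ p ∈ P, p.IsPrime) (X : ℕ → Ideal R) (hX : Monotone X)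
    (h : ∀ p ∈ P, ∃ n, ∃ s ∈ X n, s ∉ p) : ∃ n, 1 ≤ n ∧ ∃ s ∈ X n, ∀ p ∈ P, s ∉ p := by
  classical
  choose! N S hS hSp using h
  let n := max 1 (P.sup N)
  refine ⟨n, le_max_left _ _, ?_⟩
  by_contra hcon
  push Not at hcon
  obtain ⟨p, hp, hle⟩ := (Ideal.subset_union_prime (s := P) (f := id) ⊥ ⊥ (fun p hp _ _ => hP p hp)
    (I := X n)).1 fun s hs => by
      obtain ⟨p, hp, hsp⟩ := hcon s hs
      exact Set.mem_biUnion (Finset.mem_coe.2 hp) hsp
  exact hSp p hp (hle (hX ((Finset.le_sup hp).trans (le_max_right _ _)) (hS p hp)))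

/-- A function on primes decreasing along strict specialisation inside `T`. -/
def IsDimFun (T : Set (PrimeSpectrum R)) (c : PrimeSpectrum R → ℕ) : Prop :=
  ∀ p ∈ T, ∀ q ∈ T, p < q → c q < c p

lemma exists_dimFun {T : Set (PrimeSpectrum R)} {e : ℕ} (he : Order.krullDim T ≤ (e : WithBot ℕ∞)) :
    ∃ c : PrimeSpectrum R → ℕ, IsDimFun T c ∧ ∀ p, c p ≤ e := by
  classical
  have hb : ∀ a : T, Order.coheight a ≤ (e : ℕ∞) := fun a =>
    WithBot.coe_le_coe.1 ((Order.coheight_le_krullDim a).trans he)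
  refine ⟨fun p => if h : p ∈ T then (Order.coheight (⟨p, h⟩ : T)).toNat else 0, fun p hp q hq hpq => ?_,
    fun p => ?_⟩
  · simp only [dif_pos hp, dif_pos hq]
    have h1 : (⟨p, hp⟩ : T) < ⟨q, hq⟩ := hpq
    have hlt := Order.coheight_strictAnti h1 ((hb _).trans_lt (ENat.coe_lt_top e))
    have h2 : Order.coheight (⟨p, hp⟩ : T) ≠ ⊤ := ((hb _).trans_lt (ENat.coe_lt_top e)).ne
    have h3 : Order.coheight (⟨q, hq⟩ : T) ≠ ⊤ := ((hb _).trans_lt (ENat.coe_lt_top e)).ne
    rw [← ENat.coe_toNat h2, ← ENat.coe_toNat h3] at hlt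
    exact_mod_cast hlt
  · simp only
    split
    · exact ENat.toNat_le_of_le_coe (hb _)
    · exact Nat.zero_le _

section System

variable (M : ℕ → ModuleCat.{u} R) (F : ∀ k m : ℕ, m ≤ k → (M k ⟶ M m))
  (hF : ∀ (k l m : ℕ) (h₁ : m ≤ l) (h₂ : l ≤ k), F k m (h₁.trans h₂) = F k l h₂ ≫ F l m h₁)
  (m' : ℕ → ℕ) (hm' : ∀ m, m ≤ m' m) {c : PrimeSpectrum R → ℕ} (hc : IsDimFun T c)

/-- The transition maps of local cohomology at `p` vanish after `m'`. -/
def LocVanish (T : Set (PrimeSpectrum R)) (i : ℕ) : Prop :=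
  ∀ (p : PrimeSpectrum R), p ∈ T → ∀ (m k : ℕ) (h : m ≤ k), m' m ≤ k →
    (localCohomology (maximalIdeal (Localization.AtPrime p.asIdeal)) i).map
      ((locFun p.asIdeal.primeCompl).map (F k m h)) = 0

include hF hm' hc in
/-- A class dying on a refinement dies, after transition, on one with the same support. -/
theorem exists_refine (i : ℕ) (hv : 0 < i → LocVanish M F m' T (i - 1)) :
    ∀ (d : ℕ) (J J' : Ideal R) (hJ'J : J' ≤ J), PrimeSpectrum.zeroLocus (J' : Set R) ⊆ T →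
      (∀ p : PrimeSpectrum R, J' ≤ p.asIdeal → ¬ J ≤ p.asIdeal → c p < d) →
      ∀ (m k : ℕ) (h : m ≤ k), m'^[d] m ≤ k → ∀ ξ : Ext.{u} (qJ J) (M k) i, pre (qMapJ hJ'J) ξ = 0 →
        ∃ (J'' : Ideal R) (h'' : J'' ≤ J), (∀ q : Ideal R, q.IsPrime → J'' ≤ q → J ≤ q) ∧
          pre (qMapJ h'') (post ξ (F k m h)) = 0 := by
  rcases i with _ | j
  · intro d J J' hJ'J _ _ m k h _ ξ hξ
    refine ⟨J, le_rfl, fun _ _ hq => hq, ?_⟩
    obtain ⟨f, rfl⟩ := (Ext.linearEquiv₀ (R := R)).symm.surjective ξ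
    have h0 : qMapJ hJ'J ≫ f = 0 := by
      refine (Ext.mk₀_bijective _ _).1 ?_
      rw [← Ext.mk₀_comp_mk₀, Ext.mk₀_zero]
      exact hξ
    haveI : Epi (qMapJ hJ'J) := (ModuleCat.epi_iff_surjective _).2 (Submodule.factor_surjective hJ'J)
    rw [(cancel_epi (qMapJ hJ'J)).1 (h0.trans comp_zero.symm), map_zero]
    simp [pre, post]
  replace hv : LocVanish M F m' T j := hv (Nat.succ_pos j)
  intro d
  induction d with
  | zero =>
    intro J J' hJ'J _ hlow m k h _ ξ hξ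
    refine ⟨J', hJ'J, fun q hq hJq => ?_, by rw [← pre_post, hξ]; simp [post]⟩
    by_contra hn
    exact absurd (hlow ⟨q, hq⟩ hJq hn) (Nat.not_lt_zero _)
  | succ d ih =>
    intro J J' hJ'J hT hlow m k h hk ξ hξ
    let l := m'^[d] m
    have hml : m ≤ l := Function.id_le_iterate_of_id_le hm' d m
    have hlk' : m' l ≤ k := by rwa [Function.iterate_succ_apply'] at hk
    have hlk : l ≤ k := (hm' l).trans hlk'
    obtain ⟨ζ, hζ⟩ := Ext.contravariant_sequence_exact₃ (krSeq_shortExact hJ'J) (M k) ξ hξ (add_comm 1 j)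
    let ζl : Ext.{u} (Kr J J') (M l) j := post ζ (F k l hlk)
    let X : ℕ → Ideal R := fun n => LinearMap.ker (LinearMap.toSpanSingleton R _
      (pre (krMap J (Ideal.pow_le_self (I := J') n.succ_ne_zero)) ζl))
    have hmem : ∀ n r, r ∈ X n ↔ r • pre (krMap J (Ideal.pow_le_self (I := J') n.succ_ne_zero)) ζl = 0 :=
      fun n r => Iff.rfl
    have hX : Monotone X := fun a b hab r hr => by
      rw [hmem] at hr ⊢
      have hab' : J' ^ (b + 1) ≤ J' ^ (a + 1) := Ideal.pow_le_pow_right (by omega)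
      have e : krMap J (Ideal.pow_le_self (I := J') b.succ_ne_zero) =
          krMap J hab' ≫ krMap J (Ideal.pow_le_self (I := J') a.succ_ne_zero) :=
        ModuleCat.hom_ext (Submodule.linearMap_qext _ (LinearMap.ext fun _ => rfl))
      rw [e, ← pre_pre, ← pre_smul, hr, pre_zero]
    classical
    let P := (J'.finite_minimalPrimes_of_isNoetherianRing R).toFinset.filter (fun p => ¬ J ≤ p)
    have hP : ∀ p ∈ P, p ∈ J'.minimalPrimes ∧ ¬ J ≤ p := fun p hp =>
      ⟨(Set.Finite.mem_toFinset _).1 (Finset.mem_filter.1 hp).1, (Finset.mem_filter.1 hp).2⟩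
    obtain ⟨n, -, s, hs, hsP⟩ := exists_avoid P (fun p hp => (hP p hp).1.1.1) X hX fun p hp => by
      obtain ⟨hpmin, hJp⟩ := hP p hp
      haveI : p.IsPrime := hpmin.1.1
      obtain ⟨t, htJ, htp⟩ := SetLike.not_le_iff_exists.1 hJp
      obtain ⟨z, hz, -⟩ := exists_locClass p (J := J') hpmin.1.2
        (fun q hq hJq hqp => le_antisymm hqp (hpmin.2 ⟨hq, hJq⟩ hqp)) (pre (krMul t htJ J') ζ)
      obtain ⟨a, ha, s, hsp, hs0⟩ := hz _ (F k l hlk) (congrArg (fun f => f.hom z)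
        (hv ⟨p, hpmin.1.1⟩ (hT hpmin.1.2) l k hlk hlk'))
      refine ⟨a, t * s, ?_, fun hts => (hpmin.1.1.mem_or_mem hts).elim htp hsp⟩
      rw [hmem]
      have ha' : J' ^ (a + 1) ≤ J' ^ a := Ideal.pow_le_pow_right a.le_succ
      have h1 : s • pre (krMul t htJ (J' ^ (a + 1)))
          (pre (krMap J (Ideal.pow_le_self (I := J') a.succ_ne_zero)) ζl) = 0 := by
        have e : qMapJ ha' ≫ qMapJ ha ≫ krMul t htJ J' =
            krMul t htJ (J' ^ (a + 1)) ≫ krMap J (Ideal.pow_le_self (I := J') a.succ_ne_zero) :=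
          ModuleCat.hom_ext (Submodule.linearMap_qext _ (LinearMap.ext fun _ => rfl))
        rw [pre_pre, ← e, ← pre_pre, ← pre_pre, ← pre_smul, ← pre_smul]
        rw [pre_post] at hs0
        rw [pre_smul, hs0, pre_zero]
      rw [mul_comm, mul_smul, ← smul_id_pre t, ← krIncl_krMul t htJ, ← pre_pre, ← pre_smul, h1, pre_zero]
    let J₁ := J' ^ (n + 1)
    have hJ₁ : J₁ ≤ J' := Ideal.pow_le_self n.succ_ne_zero
    obtain ⟨N, hN⟩ := exists_stab s (Kr J J₁)
    let J'' := J₁ ⊔ Ideal.span {s ^ (N + 1)} * J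
    have hJ₁'' : J₁ ≤ J'' := le_sup_left
    have hJ'' : J'' ≤ J := sup_le (hJ₁.trans hJ'J) Ideal.mul_le_right
    obtain ⟨η, hη⟩ := exists_factor_of_smul_eq_zero (krMap J hJ₁'') (krMap_surjective J _) s N (fun x hx => by
        obtain ⟨x, rfl⟩ := Submodule.Quotient.mk_surjective _ x
        have hx' : (x : R) ∈ J'' := (Submodule.Quotient.mk_eq_zero (Submodule.comap J.subtype J'')).1 hx
        obtain ⟨a, ha, b, hb, hab⟩ := Submodule.mem_sup.1 hx'
        obtain ⟨y, hy, rfl⟩ := Ideal.mem_span_singleton_mul.1 hb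
        refine ⟨Submodule.Quotient.mk ⟨y, hy⟩, (Submodule.Quotient.eq _).2 ?_⟩
        show s ^ (N + 1) * y - (x : R) ∈ J₁
        rw [← hab, sub_add_cancel_right]
        exact neg_mem ha) hN j (M l) (pre (krMap J hJ₁) ζl) ((hmem n s).1 hs)
    have hkey : pre (qMapJ hJ'') (post ξ (F k l hlk)) = 0 := by
      rw [← hζ]
      show pre _ (((krSeq_shortExact hJ'J).extClass.comp ζ _).comp _ _) = 0
      rw [Ext.comp_assoc _ _ _ (add_comm 1 j) (add_zero j) (by omega)]
      show pre _ ((krSeq_shortExact hJ'J).extClass.comp ζl _) = 0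
      rw [extClass_refine hJ'J hJ₁ ζl, ← hη, ← extClass_refine hJ'' hJ₁'' η]
      exact ShortComplex.ShortExact.comp_extClass_assoc (krSeq_shortExact hJ'') η (add_comm 1 j)
    obtain ⟨J₂, hJ₂, hV, h2⟩ := ih J J'' hJ'' (fun p hp => hT fun x hx => by
        exact p.2.le_of_pow_le (le_trans hJ₁'' hp) hx) (fun p hp hJp => by
        have hJ'p : J' ≤ p.asIdeal := p.2.le_of_pow_le (le_trans hJ₁'' hp)
        obtain ⟨q, hq, hqp⟩ := Ideal.exists_minimalPrimes_le (J := p.asIdeal) hJ'p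
        haveI := hq.1.1
        have hJq : ¬ J ≤ q := fun hh => hJp (hh.trans hqp)
        have hsq : s ∉ q := hsP q (Finset.mem_filter.2 ⟨(Set.Finite.mem_toFinset _).2 hq, hJq⟩)
        have hsp : s ∈ p.asIdeal := by
          obtain ⟨y, hyJ, hyp⟩ := SetLike.not_le_iff_exists.1 hJp
          have : s ^ (N + 1) * y ∈ p.asIdeal :=
            hp (Ideal.mem_sup_right (Ideal.mul_mem_mul (Ideal.mem_span_singleton_self _) hyJ))
          exact p.2.mem_of_pow_mem _ ((p.2.mem_or_mem this).resolve_right hyp)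
        have hlt : (⟨q, hq.1.1⟩ : PrimeSpectrum R) < p := lt_of_le_of_ne hqp fun e => hsq (by
          rw [← e] at hsp; exact hsp)
        have h1 := hc _ (hT hq.1.2) p (hT hJ'p) hlt
        have h3 := hlow ⟨q, hq.1.1⟩ hq.1.2 hJq
        omega) m l hml le_rfl (post ξ (F k l hlk)) hkey
    refine ⟨J₂, hJ₂, hV, ?_⟩
    rwa [post_post, ← hF k l m hml hlk] at h2

include hc in
/-- A class killed by an element avoiding the generic points of its support comes from smaller support. -/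
lemma exists_smaller {J : Ideal R} (hJ : PrimeSpectrum.zeroLocus (J : Set R) ⊆ T) {d : ℕ}
    (hd : ∀ p : PrimeSpectrum R, J ≤ p.asIdeal → c p < d + 1) {N : ModuleCat.{u} R} {i : ℕ}
    (ξ : Ext.{u} (qJ J) N i)
    (h : ∀ p ∈ J.minimalPrimes, ∃ (n : ℕ) (hn : J ^ n ≤ J) (s : R), s ∉ p ∧ s • pre (qMapJ hn) ξ = 0) :
    ∃ (J₂ : Ideal R) (hJ₂ : PrimeSpectrum.zeroLocus (J₂ : Set R) ⊆ T) (η : Ext.{u} (qJ J₂) N i),
      (∀ p : PrimeSpectrum R, J₂ ≤ p.asIdeal → c p < d) ∧ toT T N i J₂ hJ₂ η = toT T N i J hJ ξ := by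
  classical
  let X : ℕ → Ideal R := fun n => LinearMap.ker (LinearMap.toSpanSingleton R _
    (pre (qMapJ (Ideal.pow_le_self (I := J) n.succ_ne_zero)) ξ))
  have hmem : ∀ n r, r ∈ X n ↔ r • pre (qMapJ (Ideal.pow_le_self (I := J) n.succ_ne_zero)) ξ = 0 :=
    fun n r => Iff.rfl
  have hmono : ∀ a b : ℕ, a ≤ b + 1 → ∀ (ha : J ^ a ≤ J) (r : R), r • pre (qMapJ ha) ξ = 0 → r ∈ X b :=
    fun a b hab ha r hr => by
      have e : qMapJ (Ideal.pow_le_self (I := J) b.succ_ne_zero) =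
          qMapJ (Ideal.pow_le_pow_right hab) ≫ qMapJ ha :=
        ModuleCat.hom_ext (Submodule.linearMap_qext _ (LinearMap.ext fun _ => rfl))
      rw [hmem, e, ← pre_pre, ← pre_smul, hr, pre_zero]
  have hX : Monotone X := fun a b hab r hr => hmono (a + 1) b (by omega) _ r ((hmem a r).1 hr)
  let P := (J.finite_minimalPrimes_of_isNoetherianRing R).toFinset
  have hP : ∀ p, p ∈ P ↔ p ∈ J.minimalPrimes := fun p => Set.Finite.mem_toFinset _
  obtain ⟨n, -, s, hs, hsP⟩ := exists_avoid P (fun p hp => ((hP p).1 hp).1.1) X hX fun p hp => by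
    obtain ⟨a, ha, s, hsp, hs⟩ := h p ((hP p).1 hp)
    exact ⟨a, s, hmono a a a.le_succ ha s hs, hsp⟩
  let J₁ := J ^ (n + 1)
  obtain ⟨N₀, hN⟩ := exists_stab s (qJ J₁)
  let J₂ := J₁ ⊔ Ideal.span {s ^ (N₀ + 1)}
  have hJ₁₂ : J₁ ≤ J₂ := le_sup_left
  obtain ⟨η, hη⟩ := exists_factor_of_smul_eq_zero (qMapJ hJ₁₂)
    (Submodule.factor_surjective hJ₁₂) s N₀ (fun x hx => by
      obtain ⟨x, rfl⟩ := Ideal.Quotient.mk_surjective x
      have hx' : x ∈ J₂ := Ideal.Quotient.eq_zero_iff_mem.1 hx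
      obtain ⟨a, ha, b, hb, rfl⟩ := Submodule.mem_sup.1 hx'
      obtain ⟨y, rfl⟩ := Ideal.mem_span_singleton'.1 hb
      refine ⟨Ideal.Quotient.mk J₁ y, (Submodule.Quotient.eq _).2 ?_⟩
      show s ^ (N₀ + 1) • y - (a + y * s ^ (N₀ + 1)) ∈ J₁
      rw [smul_eq_mul, mul_comm, sub_add_cancel_right]
      exact neg_mem ha) hN i N _ ((hmem n s).1 hs)
  have hJp : ∀ p : PrimeSpectrum R, J₂ ≤ p.asIdeal → J ≤ p.asIdeal ∧ s ∈ p.asIdeal := fun p hp =>
    ⟨p.2.le_of_pow_le (le_trans hJ₁₂ hp),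
      p.2.mem_of_pow_mem _ (hp (Ideal.mem_sup_right (Ideal.mem_span_singleton_self _)))⟩
  have hJ₂ : PrimeSpectrum.zeroLocus (J₂ : Set R) ⊆ T := fun p hp => hJ (hJp p hp).1
  refine ⟨J₂, hJ₂, η, fun p hp => ?_, ?_⟩
  · obtain ⟨q, hq, hqp⟩ := Ideal.exists_minimalPrimes_le (J := p.asIdeal) (hJp p hp).1
    have hlt : (⟨q, hq.1.1⟩ : PrimeSpectrum R) < p := lt_of_le_of_ne hqp fun e =>
      hsP q ((hP q).2 hq) (by rw [← e] at hp; exact (hJp ⟨q, hq.1.1⟩ hp).2)
    have h1 := hc _ (hJ hq.1.2) p (hJ (hJp p hp).1) hlt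
    have h3 := hd ⟨q, hq.1.1⟩ hq.1.2
    omega
  · have hJ₁ : PrimeSpectrum.zeroLocus (J₁ : Set R) ⊆ T := fun p hp => hJ (p.2.le_of_pow_le hp)
    rw [← toT_pre N i hJ₂ hJ₁ hJ₁₂ η, hη, toT_pre N i hJ hJ₁]

omit [IsNoetherianRing R] in
lemma ext_eq_zero_of_empty {J : Ideal R} (h : ∀ p : PrimeSpectrum R, ¬ J ≤ p.asIdeal)
    {N : ModuleCat.{u} R} {i : ℕ} (ξ : Ext.{u} (qJ J) N i) : ξ = 0 := by
  have hJ : J = ⊤ := by
    by_contra hne
    obtain ⟨P, hP, hJP⟩ := J.exists_le_maximal hne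
    exact h ⟨P, hP.isPrime⟩ hJP
  subst hJ
  rw [← pre_id ξ, (ModuleCat.isZero_of_subsingleton (qJ (⊤ : Ideal R))).eq_of_src (𝟙 _) 0]
  simp [pre]

include hF hm' hc in
/-- Pointwise vanishing of the transition maps gives vanishing with supports. -/
theorem map_eq_zero_of_locVanish (i : ℕ) (hv : LocVanish M F m' T i) :
    ∀ (d : ℕ) (J : Ideal R) (hJ : PrimeSpectrum.zeroLocus (J : Set R) ⊆ T),
      (∀ p : PrimeSpectrum R, J ≤ p.asIdeal → c p < d) →
      ∀ (m k : ℕ) (h : m ≤ k), m'^[d] m ≤ k → ∀ ξ : Ext.{u} (qJ J) (M k) i,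
        toT T (M m) i J hJ (post ξ (F k m h)) = 0 := by
  intro d
  induction d with
  | zero =>
    intro J hJ hd m k h _ ξ
    rw [ext_eq_zero_of_empty (fun p hp => absurd (hd p hp) (Nat.not_lt_zero _)) ξ]
    simp [post]
  | succ d ih =>
    intro J hJ hd m k h hk ξ
    let l := m'^[d] m
    have hml : m ≤ l := Function.id_le_iterate_of_id_le hm' d m
    have hlk' : m' l ≤ k := by rwa [Function.iterate_succ_apply'] at hk
    have hlk : l ≤ k := (hm' l).trans hlk'
    obtain ⟨J₂, hJ₂, η, hd₂, hη⟩ := exists_smaller hc hJ hd (post ξ (F k l hlk)) fun p hp => by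
      haveI := hp.1.1
      obtain ⟨z, hz, -⟩ := exists_locClass p hp.1.2
        (fun q hq hJq hqp => le_antisymm hqp (hp.2 ⟨hq, hJq⟩ hqp)) ξ
      exact hz _ (F k l hlk) (congrArg (fun f => f.hom z) (hv ⟨p, hp.1.1⟩ (hJ hp.1.2) l k hlk hlk'))
    have := ih J₂ hJ₂ hd₂ m l hml le_rfl η
    rw [← toT_natural, hη, toT_natural, post_post, ← hF k l m hml hlk] at this
    exact this

variable (T) in
/-- The images of the transition maps at `p` stabilise and map injectively to level `0`. -/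
def LocInj (i : ℕ) : Prop :=
  ∀ (p : PrimeSpectrum R), p ∈ T → ∀ (m k : ℕ) (h : m ≤ k), m' m ≤ k → ∀ x,
    ((localCohomology (maximalIdeal (Localization.AtPrime p.asIdeal)) i).map
        ((locFun p.asIdeal.primeCompl).map (F m 0 (Nat.zero_le m)))).hom
      (((localCohomology (maximalIdeal (Localization.AtPrime p.asIdeal)) i).map
        ((locFun p.asIdeal.primeCompl).map (F k m h))).hom x) = 0 →
      ((localCohomology (maximalIdeal (Localization.AtPrime p.asIdeal)) i).map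
        ((locFun p.asIdeal.primeCompl).map (F k m h))).hom x = 0

include hF hm' hc in
/-- Pointwise injectivity of the images gives injectivity with supports. -/
theorem eq_zero_of_locInj (i : ℕ) (hv : 0 < i → LocVanish M F m' T (i - 1)) (hinj : LocInj T M F m' i)
    (e : ℕ) (hce : ∀ p, c p < e) :
    ∀ (d : ℕ) (J : Ideal R) (hJ : PrimeSpectrum.zeroLocus (J : Set R) ⊆ T),
      (∀ p : PrimeSpectrum R, J ≤ p.asIdeal → c p < d) →
      ∀ (m k : ℕ) (h : m ≤ k) (hm : m'^[e] 0 ≤ m), m'^[d] m ≤ k → ∀ ξ : Ext.{u} (qJ J) (M k) i,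
        toT T (M (m'^[e] 0)) i J hJ (post ξ (F k _ (hm.trans h))) = 0 →
          toT T (M m) i J hJ (post ξ (F k m h)) = 0 := by
  intro d
  induction d with
  | zero =>
    intro J hJ hd m k h _ _ ξ _
    rw [ext_eq_zero_of_empty (fun p hp => absurd (hd p hp) (Nat.not_lt_zero _)) ξ]
    simp [post]
  | succ d ih =>
    intro J hJ hd m k h hm hk ξ hξ
    let l := m'^[d] m
    have hml : m ≤ l := Function.id_le_iterate_of_id_le hm' d m
    have hlk' : m' l ≤ k := by rwa [Function.iterate_succ_apply'] at hk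
    have hlk : l ≤ k := (hm' l).trans hlk'
    obtain ⟨J', hJ', hJ'J, hpre⟩ := exists_of_toT_eq_zero _ i hJ _ hξ
    obtain ⟨J'', hJ'', hV, hpre'⟩ := exists_refine M F hF m' hm' hc i hv e J J' hJ'J hJ'
      (fun p _ _ => hce p) 0 (m'^[e] 0) (Nat.zero_le _) le_rfl _ hpre
    rw [post_post, ← hF k (m'^[e] 0) 0 (Nat.zero_le _) (hm.trans h)] at hpre'
    obtain ⟨J₂, hJ₂, η, hd₂, hη⟩ := exists_smaller hc hJ hd (post ξ (F k l hlk)) fun p hp => by
      haveI := hp.1.1
      obtain ⟨z, hz, hz'⟩ := exists_locClass p hp.1.2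
        (fun q hq hJq hqp => le_antisymm hqp (hp.2 ⟨hq, hJq⟩ hqp)) ξ
      refine hz _ (F k l hlk) (hinj ⟨p, hp.1.1⟩ (hJ hp.1.2) l k hlk hlk' z ?_)
      have := hz' _ (F k 0 (Nat.zero_le k)) J'' hJ'' hV hpre'
      rw [hF k l 0 (Nat.zero_le l) hlk, Functor.map_comp, Functor.map_comp] at this
      exact this
    have hml' : m'^[e] 0 ≤ l := hm.trans hml
    have h0 : toT T (M (m'^[e] 0)) i J₂ hJ₂ (post η (F l _ hml')) = 0 := by
      rw [← toT_natural, hη, toT_natural, post_post, ← hF k l _ hml' hlk]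
      exact hξ
    have := ih J₂ hJ₂ hd₂ m l hml hm le_rfl η h0
    rw [← toT_natural, hη, toT_natural, post_post, ← hF k l m hml hlk] at this
    exact this

end System

end Groth.Agent.H1ExtLC
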